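/-
Images `C_p ≀ C_p` of `p`-groups (Yoshida).

* `card_ge_of_shift_invariant`: a shift-invariant subgroup of `(ZMod p)^p` containing a vector of
  nonzero sum is everything;
* `exists_surjective_wreath`: a hom `μ` on a subgroup `M` of index `p`, with nonzero product over
  the conjugates of some element, gives a surjection onto a Sylow `p`-subgroup of `Sym(p²)`.
-/
import Cfsg.Agent.EqLemmas

set_option autoImplicit false

open Polynomial

namespace Cfsg.Agent.Yoshida

variable (p : ℕ)

/-- The cyclic shift. -/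
def shift : Module.End (ZMod p) (ZMod p → ZMod p) where
  toFun v i := v (i + 1)
  map_add' _ _ := rfl
  map_smul' _ _ := rfl

theorem shift_pow_apply (n : ℕ) (v : ZMod p → ZMod p) (i : ZMod p) :
    (shift p ^ n) v i = v (i + n) := by
  induction n generalizing i with
  | zero => simp
  | succ n ih =>
    rw [pow_succ', Module.End.mul_apply]
    show (shift p ^ n) v (i + 1) = _
    rw [ih]
    congr 1
    push_cast
    ring

theorem card_ge_of_shift_invariant [hp : Fact p.Prime] (V : AddSubgroup (ZMod p → ZMod p))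
    (hV : ∀ v ∈ V, shift p v ∈ V) {v : ZMod p → ZMod p} (hv : v ∈ V) (hsum : ∑ i, v i ≠ 0) :
    p ^ p ≤ Nat.card V := by
  classical
  set D : Module.End (ZMod p) (ZMod p → ZMod p) := shift p - 1 with hD
  haveI : CharP (ZMod p)[X] p := inferInstance
  have hone : shift p ^ p = 1 := by
    apply LinearMap.ext
    intro w
    funext i
    rw [shift_pow_apply, ZMod.natCast_self, add_zero]
    rfl
  have hgeom : ((X : (ZMod p)[X]) - 1) ^ (p - 1) = ∑ i ∈ Finset.range p, X ^ i := by
    have h1 : ((X : (ZMod p)[X]) - 1) ≠ 0 := X_sub_C_ne_zero (1 : ZMod p) |> fun h => by simpa using h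
    refine mul_right_cancel₀ h1 ?_
    rw [geom_sum_mul, ← pow_succ, Nat.sub_add_cancel hp.out.one_le, sub_pow_char, one_pow]
  have hDp : D ^ p = 0 := by
    have h1 : aeval (shift p) (((X : (ZMod p)[X]) - 1) ^ p) = D ^ p := by simp [hD]
    rw [← h1, sub_pow_char, one_pow]
    simp [hone]
  have hDp1 : (D ^ (p - 1)) v ≠ 0 := by
    have h1 : aeval (shift p) (((X : (ZMod p)[X]) - 1) ^ (p - 1)) = D ^ (p - 1) := by simp [hD]
    rw [← h1, hgeom, map_sum]
    intro h
    apply hsum
    have h2 := congrFun h 0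
    simp only [map_pow, aeval_X, LinearMap.sum_apply, Finset.sum_apply, shift_pow_apply,
      zero_add, Pi.zero_apply] at h2
    rw [← h2]
    refine (Finset.sum_bij (fun i _ => ((i : ℕ) : ZMod p)) (fun i _ => Finset.mem_univ _) ?_ ?_
      fun i _ => rfl).symm
    · intro i hi j hj h
      rw [ZMod.natCast_eq_natCast_iff', Nat.mod_eq_of_lt (Finset.mem_range.1 hi),
        Nat.mod_eq_of_lt (Finset.mem_range.1 hj)] at h
      exact h
    · intro b _
      exact ⟨b.val, Finset.mem_range.2 b.val_lt, ZMod.natCast_zmod_val b⟩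
  let Vk : ℕ → AddSubgroup (ZMod p → ZMod p) := fun k => V.map (D ^ k).toAddMonoidHom
  have hVD : ∀ w ∈ V, D w ∈ V := fun w hw => V.sub_mem (hV w hw) hw
  have hle : ∀ k, Vk (k + 1) ≤ Vk k := by
    rintro k _ ⟨w, hw, rfl⟩
    exact ⟨D w, hVD w hw, by
      show (D ^ k) (D w) = (D ^ (k + 1)) w
      rw [pow_succ]; rfl⟩
  have hlt : ∀ k < p, Vk (k + 1) ≠ Vk k := by
    intro k hk heq
    have hst : ∀ j, Vk (k + j) = Vk k := by
      intro j
      induction j with
      | zero => rfl
      | succ j ih =>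
        refine le_antisymm ((hle _).trans ih.le) ?_
        rw [← heq]
        rintro _ ⟨w, hw, rfl⟩
        have hmem : (D ^ k) w ∈ Vk (k + j) := by rw [ih]; exact ⟨w, hw, rfl⟩
        obtain ⟨u, hu, hue⟩ := hmem
        refine ⟨u, hu, ?_⟩
        show (D ^ (k + j + 1)) u = (D ^ (k + 1)) w
        rw [pow_succ', pow_succ' D k, Module.End.mul_apply, Module.End.mul_apply]
        exact congrArg D hue
    have h0 : (D ^ (p - 1)) v ∈ Vk (k + (p - k)) := by
      rw [hst, ← hst (p - 1 - k), Nat.add_sub_cancel' (by omega)]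
      exact ⟨v, hv, rfl⟩
    rw [Nat.add_sub_cancel' hk.le] at h0
    obtain ⟨u, -, hu⟩ := h0
    exact hDp1 (hu.symm.trans (by show (D ^ p) u = 0; rw [hDp]; rfl))
  have hcard : ∀ k ≤ p, p ^ k * Nat.card (Vk k) ≤ Nat.card V := by
    intro k
    induction k with
    | zero =>
      intro _
      rw [pow_zero, one_mul]
      exact (Nat.card_congr (Equiv.subtypeEquivRight fun x => ⟨fun ⟨w, hw, e⟩ => e ▸ hw,
        fun hx => ⟨x, hx, rfl⟩⟩)).le
    | succ k ih =>
      intro hk
      refine le_trans ?_ (ih (Nat.le_of_succ_le hk))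
      rw [pow_succ, mul_assoc]
      refine Nat.mul_le_mul_left _ ?_
      obtain ⟨i, -, hi⟩ := (Nat.dvd_prime_pow hp.out).1
        (show Nat.card (Vk (k + 1)) ∣ p ^ p by
          have := AddSubgroup.card_addSubgroup_dvd_card (Vk (k + 1))
          simpa using this)
      obtain ⟨j, -, hj⟩ := (Nat.dvd_prime_pow hp.out).1
        (show Nat.card (Vk k) ∣ p ^ p by
          have := AddSubgroup.card_addSubgroup_dvd_card (Vk k)
          simpa using this)
      have hltc : Nat.card (Vk (k + 1)) < Nat.card (Vk k) :=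
        lt_of_le_of_ne (AddSubgroup.card_le_of_le (hle k)) fun h =>
          hlt k (by omega) (AddSubgroup.eq_of_le_of_card_ge (hle k) h.ge)
      rw [hi, hj] at hltc ⊢
      rw [← pow_succ']
      exact Nat.pow_le_pow_right hp.out.pos ((Nat.pow_lt_pow_iff_right hp.out.one_lt).1 hltc)
  exact le_trans (Nat.le_mul_of_pos_right _ Nat.card_pos) (hcard p le_rfl)

theorem card_sylow_perm_sq [hp : Fact p.Prime] (W : Sylow p (Equiv.Perm (Fin (p ^ 2)))) :
    Nat.card W = p ^ (p + 1) := by
  rw [W.card_eq_multiplicity, Nat.card_perm, Nat.card_fin,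
    ← Nat.multiplicity_eq_factorization hp.out (p ^ 2).factorial_ne_zero,
    Nat.Prime.multiplicity_factorial_pow hp.out]
  simp [Finset.sum_range_succ, add_comm]

/-- **The wreath image.** -/
theorem exists_surjective_wreath {S : Type*} [Group S] [Finite S] [hp : Fact p.Prime]
    (hS : IsPGroup p S) (M : Subgroup S) [hMn : M.Normal] (hM : M.index = p)
    (μ : M →* Multiplicative (ZMod p)) (t : S) (x : M)
    (hx : ∏ i ∈ Finset.range p, μ (MulAut.conjNormal (t ^ i) x) ≠ 1) :
    ∃ (W : Sylow p (Equiv.Perm (Fin (p ^ 2))))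
      (f : S →* ↥(W : Subgroup (Equiv.Perm (Fin (p ^ 2))))), Function.Surjective f := by
  classical
  have htp : t ^ p ∈ M := by rw [← hM]; exact M.pow_index_mem t
  have hinv : ∀ (u : S), u ∈ M → ∀ m : M, μ (MulAut.conjNormal u m) = μ m := by
    intro u hu m
    rw [show MulAut.conjNormal u m = ⟨u, hu⟩ * m * (⟨u, hu⟩ : M)⁻¹ from Subtype.ext rfl,
      map_mul, map_mul, map_inv, mul_right_comm, mul_inv_cancel, one_mul]
  have hmod : ∀ (n : ℕ) (m : M), μ (MulAut.conjNormal (t ^ n) m) =
      μ (MulAut.conjNormal (t ^ (n % p)) m) := by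
    intro n m
    conv_lhs => rw [← Nat.div_add_mod n p, pow_add, pow_mul, map_mul, MulAut.mul_apply]
    exact hinv _ (pow_mem htp _) _
  let Ψ : M →* Multiplicative (ZMod p → ZMod p) := MonoidHom.mk'
    (fun m => Multiplicative.ofAdd fun i : ZMod p =>
      Multiplicative.toAdd (μ (MulAut.conjNormal (t ^ i.val) m))) (fun a b => by
        rw [← ofAdd_add]
        refine congrArg _ (funext fun i => ?_)
        show Multiplicative.toAdd _ = _
        rw [map_mul, map_mul]
        rfl)
  have hΨ : ∀ (m : M) (i : ZMod p), Multiplicative.toAdd (Ψ m) i =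
      Multiplicative.toAdd (μ (MulAut.conjNormal (t ^ i.val) m)) := fun _ _ => rfl
  let V : AddSubgroup (ZMod p → ZMod p) := Subgroup.toAddSubgroup' Ψ.range
  have hVmem : ∀ {w}, w ∈ V ↔ ∃ m : M, Ψ m = Multiplicative.ofAdd w := Iff.rfl
  have hshift : ∀ w ∈ V, shift p w ∈ V := by
    intro w hw
    obtain ⟨m, hm⟩ := hVmem.1 hw
    refine hVmem.2 ⟨MulAut.conjNormal t m, ?_⟩
    apply Multiplicative.toAdd.injective
    funext i
    show _ = w (i + 1)
    rw [hΨ, show w = Multiplicative.toAdd (Ψ m) by rw [hm]; rfl, hΨ, ← MulAut.mul_apply, ← map_mul,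
      ← pow_succ, hmod (i.val + 1)]
    congr 4
    rw [ZMod.val_add, ZMod.val_one]
  have hsum : ∑ i : ZMod p, Multiplicative.toAdd (Ψ x) i ≠ 0 := by
    intro h
    apply hx
    apply Multiplicative.toAdd.injective
    rw [toAdd_prod, toAdd_one, ← h]
    refine Finset.sum_bij (fun i _ => ((i : ℕ) : ZMod p)) (fun i _ => Finset.mem_univ _) ?_ ?_ ?_
    · intro i hi j hj h
      rw [ZMod.natCast_eq_natCast_iff', Nat.mod_eq_of_lt (Finset.mem_range.1 hi),
        Nat.mod_eq_of_lt (Finset.mem_range.1 hj)] at h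
      exact h
    · intro b _
      exact ⟨b.val, Finset.mem_range.2 b.val_lt, ZMod.natCast_zmod_val b⟩
    · intro i hi
      rw [hΨ, ZMod.val_natCast, Nat.mod_eq_of_lt (Finset.mem_range.1 hi)]
  have hV : p ^ p ≤ Nat.card Ψ.range :=
    card_ge_of_shift_invariant p V hshift (hVmem.2 ⟨x, rfl⟩) hsum
  -- the action on the cosets of the kernel of `μ`
  have hμ : Function.Surjective μ := by
    rw [← MonoidHom.range_eq_top]
    haveI : Fact (Nat.card (Multiplicative (ZMod p))).Prime := ⟨by simpa using hp.out⟩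
    refine μ.range.eq_bot_or_eq_top_of_prime_card.resolve_left fun h => hx ?_
    refine Finset.prod_eq_one fun i _ => ?_
    have : μ (MulAut.conjNormal (t ^ i) x) ∈ μ.range := ⟨_, rfl⟩
    rwa [h, Subgroup.mem_bot] at this
  set K₀ : Subgroup S := μ.ker.map M.subtype with hK₀
  have hidx : Nat.card (S ⧸ K₀) = p ^ 2 := by
    show K₀.index = _
    rw [hK₀, Subgroup.index_map_subtype, Subgroup.index_ker, MonoidHom.range_eq_top.2 hμ,
      Subgroup.card_top, hM]
    simp [sq]
  let e : S ⧸ K₀ ≃ Fin (p ^ 2) := Finite.equivFinOfCardEq hidx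
  let φ : S →* Equiv.Perm (Fin (p ^ 2)) :=
    e.permCongrHom.toMonoidHom.comp (MulAction.toPermHom S (S ⧸ K₀))
  have hker : φ.ker ≤ Ψ.ker.map M.subtype := by
    intro s hs
    have hfix : ∀ g : S, g⁻¹ * s * g ∈ K₀ := by
      intro g
      have h1 : e (s • (g : S ⧸ K₀)) = e g := by
        have := Equiv.congr_fun (MonoidHom.mem_ker.1 hs) (e g)
        simpa [φ] using this
      have h3 : ((s * g : S) : S ⧸ K₀) = (g : S ⧸ K₀) := e.injective h1
      have h2 := QuotientGroup.eq.1 h3.symm
      rwa [← mul_assoc] at h2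
    have hsM : s ∈ M := by
      have := hfix 1
      rw [inv_one, one_mul, mul_one] at this
      obtain ⟨m, -, rfl⟩ := this
      exact m.2
    refine ⟨⟨s, hsM⟩, MonoidHom.mem_ker.2 ?_, rfl⟩
    apply Multiplicative.toAdd.injective
    funext i
    rw [hΨ]
    obtain ⟨m, hm, hme⟩ := hfix (t ^ i.val)⁻¹
    rw [inv_inv] at hme
    have : MulAut.conjNormal (t ^ i.val) (⟨s, hsM⟩ : M) = m := Subtype.ext hme.symm
    rw [this, MonoidHom.mem_ker.1 hm]
    rfl
  obtain ⟨W, hW⟩ := (IsPGroup.of_surjective hS φ.rangeRestrict φ.rangeRestrict_surjective).exists_le_sylow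
  have hcard : p ^ (p + 1) ≤ Nat.card φ.range := by
    refine Nat.le_of_mul_le_mul_right ?_ (Nat.card_pos (α := φ.ker))
    calc p ^ (p + 1) * Nat.card φ.ker
        ≤ p * (Nat.card Ψ.range * Nat.card (Ψ.ker.map M.subtype)) := by
          rw [pow_succ', mul_assoc]
          exact Nat.mul_le_mul_left _ (Nat.mul_le_mul hV (Subgroup.card_le_of_le hker))
      _ = Nat.card φ.range * Nat.card φ.ker := by
          rw [Subgroup.card_map_of_injective M.subtype_injective, ← Subgroup.index_ker,
            Subgroup.index_mul_card, ← Subgroup.index_ker, Subgroup.index_mul_card]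
          rw [← M.index_mul_card, hM]
  have hWeq : φ.range = (W : Subgroup (Equiv.Perm (Fin (p ^ 2)))) :=
    Subgroup.eq_of_le_of_card_ge hW (by rw [card_sylow_perm_sq]; exact hcard)
  refine ⟨W, φ.codRestrict _ (fun s => hWeq.le ⟨s, rfl⟩), fun w => ?_⟩
  have hw : (w : Equiv.Perm (Fin (p ^ 2))) ∈ φ.range := hWeq.ge w.2
  obtain ⟨s, hs⟩ := hw
  exact ⟨s, Subtype.ext hs⟩

end Cfsg.Agent.Yoshida
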