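/-
The combinatorial core of Yoshida's transfer theorem.

* `exists_surjective_wreath_of_cocycle`: a cocycle with values in `Z/p` on a finite `S`-set, trivial
  on the fixed points of `x ^ n`, `p ∣ n`, with nonzero product at `x` over the non-fixed points,
  gives a surjection of `S` onto a Sylow `p`-subgroup of `Sym(p²)`.
-/
import Cfsg.Agent.Lib.Yoshida.Wreath
import Cfsg.Agent.Lib.PGroup.Basic

set_option autoImplicit false

namespace Cfsg.Agent.Yoshida

open scoped Classical

variable {S : Type*} [Group S] {O : Type*} [MulAction S O] {A : Type*} [CommGroup A]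

/-- Cocycle identity at a power. -/
theorem prod_range_cocycle (d : S → O → A) (hd : ∀ a b q, d (a * b) q = d b q * d a (b • q))
    (x : S) (q : O) (n : ℕ) :
    ∏ i ∈ Finset.range n, d x ((x ^ i) • q) = d (x ^ n) q := by
  induction n with
  | zero =>
    have h := hd 1 1 q
    rw [one_mul, one_smul] at h
    rw [Finset.range_zero, Finset.prod_empty, pow_zero]
    exact (mul_eq_left.1 h.symm).symm
  | succ n ih =>
    rw [Finset.prod_range_succ, ih, pow_succ', hd]

/-- A finite set on which `x` moves every point has trivial product. -/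
theorem prod_eq_one_of_moved {p : ℕ} [hp : Fact p.Prime] [Finite S] (hS : IsPGroup p S)
    (d : S → O → A) (hd : ∀ a b q, d (a * b) q = d b q * d a (b • q))
    (x : S) (hlow : ∀ q n, p ∣ n → (x ^ n) • q = q → d (x ^ n) q = 1)
    (P : Finset O) (hP : ∀ q ∈ P, x • q ∈ P) (hmv : ∀ q ∈ P, x • q ≠ q) :
    ∏ q ∈ P, d x q = 1 := by
  induction P using Finset.strongInduction with
  | _ P ih =>
  rcases P.eq_empty_or_nonempty with rfl | ⟨q, hq⟩
  · exact Finset.prod_empty
  set L := Function.minimalPeriod (fun r => x • r) q with hL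
  obtain ⟨k, hk⟩ := hS x
  have hper : Function.IsPeriodicPt (fun r => x • r) (p ^ k) q := by
    show (fun r => x • r)^[p ^ k] q = q
    rw [smul_iterate]
    show (x ^ p ^ k) • q = q
    rw [hk, one_smul]
  have hdvd : L ∣ p ^ k := hper.minimalPeriod_dvd
  have hL0 : 0 < L := Nat.pos_of_dvd_of_pos hdvd (pow_pos hp.out.pos k)
  have hLq : (x ^ L) • q = q := by
    have := Function.iterate_minimalPeriod (f := fun r => x • r) (x := q)
    rw [smul_iterate] at this
    exact this
  have hpL : p ∣ L := by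
    obtain ⟨j, -, hj⟩ := (Nat.dvd_prime_pow hp.out).1 hdvd
    rcases Nat.eq_zero_or_pos j with rfl | hj0
    · exact absurd (by simpa [hj] using hLq : x • q = q) (hmv q hq)
    · rw [hj]; exact dvd_pow_self p hj0.ne'
  set C := (Finset.range L).image fun i => (x ^ i) • q with hC
  have hinj : Set.InjOn (fun i => (x ^ i) • q) (Finset.range L : Set ℕ) := by
    intro i hi j hj h
    have := Function.iterate_injOn_Iio_minimalPeriod (f := fun r => x • r) (x := q)
      (Finset.mem_range.1 hi) (Finset.mem_range.1 hj)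
    simp only [smul_iterate] at this
    exact this h
  have hCP : C ⊆ P := by
    intro r hr
    obtain ⟨i, -, rfl⟩ := Finset.mem_image.1 hr
    clear hr
    induction i with
    | zero => simpa using hq
    | succ i ih' => rw [pow_succ', mul_smul]; exact hP _ ih'
  have hCx : ∀ r ∈ C, x • r ∈ C := by
    intro r hr
    obtain ⟨i, hi, rfl⟩ := Finset.mem_image.1 hr
    rw [← mul_smul, ← pow_succ']
    rcases Nat.lt_or_ge (i + 1) L with h | h
    · exact Finset.mem_image.2 ⟨i + 1, Finset.mem_range.2 h, rfl⟩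
    · have : i + 1 = L := le_antisymm (Finset.mem_range.1 hi) h
      rw [this, hLq]
      exact Finset.mem_image.2 ⟨0, Finset.mem_range.2 hL0, by simp⟩
  have himg : C.image (fun r => x • r) = C :=
    Finset.eq_of_subset_of_card_le (Finset.image_subset_iff.2 hCx)
      (by rw [Finset.card_image_of_injective _ (MulAction.injective x)])
  have hrest : ∏ r ∈ P \ C, d x r = 1 := by
    refine ih _ ?_ (fun r hr => ?_) fun r hr => hmv r (Finset.mem_sdiff.1 hr).1
    · exact Finset.sdiff_ssubset hCP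
        ⟨q, Finset.mem_image.2 ⟨0, Finset.mem_range.2 hL0, by simp⟩⟩
    · obtain ⟨hrP, hrC⟩ := Finset.mem_sdiff.1 hr
      refine Finset.mem_sdiff.2 ⟨hP r hrP, fun h => hrC ?_⟩
      rw [← himg] at h
      obtain ⟨u, hu, he⟩ := Finset.mem_image.1 h
      rwa [← MulAction.injective x he]
  rw [← Finset.prod_sdiff hCP, hrest, one_mul, hC, Finset.prod_image hinj,
    prod_range_cocycle d hd]
  exact hlow q L hpL hLq

/-- **The combinatorial core of Yoshida's theorem.** -/
theorem exists_surjective_wreath_of_cocycle [Finite S] [Fintype O] {p : ℕ} [hp : Fact p.Prime]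
    (hS : IsPGroup p S) (d : S → O → Multiplicative (ZMod p))
    (hd : ∀ a b q, d (a * b) q = d b q * d a (b • q))
    (x : S) (hlow : ∀ q n, p ∣ n → (x ^ n) • q = q → d (x ^ n) q = 1)
    (hprod : ∏ q ∈ Finset.univ.filter (fun q : O => ∃ s : S, s • q ≠ q), d x q ≠ 1) :
    ∃ (W : Sylow p (Equiv.Perm (Fin (p ^ 2))))
      (f : S →* ↥(W : Subgroup (Equiv.Perm (Fin (p ^ 2))))), Function.Surjective f := by
  haveI : Finite (Quotient (MulAction.orbitRel S O)) := Quotient.finite _
  letI := Fintype.ofFinite (Quotient (MulAction.orbitRel S O))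
  obtain ⟨q₀, hq₀, horb⟩ : ∃ q₀ : O, (∃ s : S, s • q₀ ≠ q₀) ∧
      ∏ q ∈ Finset.univ.filter (fun q : O => q ∈ MulAction.orbit S q₀), d x q ≠ 1 := by
    by_contra! hall
    apply hprod
    rw [← Finset.prod_fiberwise _ (fun q => (Quotient.mk'' q : Quotient (MulAction.orbitRel S O)))]
    refine Finset.prod_eq_one fun c _ => ?_
    induction c using Quotient.inductionOn' with
    | h q =>
    by_cases hq : ∃ s : S, s • q ≠ q
    · refine Eq.trans (Finset.prod_congr ?_ fun _ _ => rfl) (hall q hq)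
      ext r
      simp only [Finset.mem_filter, Finset.mem_univ, true_and, Quotient.eq'',
        MulAction.orbitRel_apply]
      refine ⟨fun h => h.2, fun h => ⟨?_, h⟩⟩
      obtain ⟨g, rfl⟩ := h
      obtain ⟨s, hs⟩ := hq
      refine ⟨g * s * g⁻¹, fun h' => hs ?_⟩
      rw [← mul_smul, inv_mul_cancel_right, mul_smul] at h'
      exact smul_left_cancel g h'
    · rw [Finset.filter_filter]
      refine Finset.prod_eq_one fun r hr => ?_
      exfalso
      simp only [Finset.mem_filter, Finset.mem_univ, true_and, Quotient.eq'',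
        MulAction.orbitRel_apply] at hr
      obtain ⟨⟨s, hs⟩, g, rfl⟩ := hr
      push_neg at hq
      simp only at hs
      exact hs (by rw [hq g, hq s])
  set O₀ := Finset.univ.filter (fun q : O => q ∈ MulAction.orbit S q₀) with hO₀
  have hH : MulAction.stabilizer S q₀ ≠ ⊤ := by
    intro h
    obtain ⟨s, hs⟩ := hq₀
    exact hs (MulAction.mem_stabilizer_iff.1 (h ▸ Subgroup.mem_top s))
  obtain ⟨M, hMc, hHM⟩ := (eq_top_or_exists_le_coatom _).resolve_left hH
  haveI hMn : M.Normal := PGroup.isCoatom_normal hS hMc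
  have hMi : M.index = p := PGroup.isCoatom_index hS hMc
  have hxM : x ∈ M := by
    by_contra hx
    refine horb (prod_eq_one_of_moved hS d hd x hlow _ (fun q hq => ?_) fun q hq h => hx ?_)
    · rw [Finset.mem_filter] at hq ⊢
      obtain ⟨g, rfl⟩ := hq.2
      exact ⟨Finset.mem_univ _, ⟨x * g, mul_smul x g q₀⟩⟩
    · obtain ⟨g, rfl⟩ := (Finset.mem_filter.1 hq).2
      have : g⁻¹ * x * g ∈ M := hHM (MulAction.mem_stabilizer_iff.2 (by
        rw [mul_smul, mul_smul, h, inv_smul_smul]))
      simpa [mul_assoc] using hMn.conj_mem _ this g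
  obtain ⟨t, ht⟩ : ∃ t, t ∉ M := by
    by_contra! h
    exact hMc.1 ((Subgroup.eq_top_iff' M).2 h)
  set π := QuotientGroup.mk' M with hπ
  have hπt : orderOf (π t) = p := by
    refine orderOf_eq_prime (p := p) ?_ fun h => ht ((QuotientGroup.eq_one_iff t).1 h)
    rw [← map_pow, ← hMi]
    exact (QuotientGroup.eq_one_iff _).2 (M.pow_index_mem t)
  have huniq : ∀ i < p, ∀ j < p, π (t ^ i) = π (t ^ j) → i = j := by
    intro i hi j hj h
    rw [map_pow, map_pow] at h
    exact pow_injOn_Iio_orderOf (by rw [hπt]; exact hi) (by rw [hπt]; exact hj) h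
  have hexi : ∀ g : S, ∃ i < p, t ^ i * g ∈ M := by
    intro g
    have hcard : Nat.card (S ⧸ M) = p := hMi
    have htop : Subgroup.zpowers (π t) = ⊤ :=
      Subgroup.eq_top_of_card_eq _ (by rw [Nat.card_zpowers, hπt, hcard])
    have hg : (π g)⁻¹ ∈ Subgroup.zpowers (π t) := htop ▸ Subgroup.mem_top _
    rw [← mem_powers_iff_mem_zpowers] at hg
    obtain ⟨n, hn⟩ := hg
    refine ⟨n % p, Nat.mod_lt _ hp.out.pos, (QuotientGroup.eq_one_iff _).1 ?_⟩
    show π (t ^ (n % p) * g) = 1
    rw [map_mul, map_pow, ← hπt, pow_mod_orderOf]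
    simp only at hn
    rw [hn, inv_mul_cancel]
  -- the block of `q₀`
  set B := Finset.univ.filter (fun q : O => ∃ m ∈ M, m • q₀ = q) with hB
  have hBM : ∀ m ∈ M, B.image (fun q => m • q) = B := by
    intro m hm
    refine Finset.eq_of_subset_of_card_le (Finset.image_subset_iff.2 fun q hq => ?_)
      (by rw [Finset.card_image_of_injective _ (MulAction.injective m)])
    obtain ⟨-, n, hn, rfl⟩ := Finset.mem_filter.1 hq
    exact Finset.mem_filter.2 ⟨Finset.mem_univ _, m * n, mul_mem hm hn, mul_smul m n q₀⟩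
  have hreidx : ∀ (g : O → Multiplicative (ZMod p)), ∀ m ∈ M,
      ∏ q ∈ B, g (m • q) = ∏ q ∈ B, g q := by
    intro g m hm
    conv_rhs => rw [← hBM m hm]
    rw [Finset.prod_image (MulAction.injective m).injOn]
  let μ : M →* Multiplicative (ZMod p) := MonoidHom.mk' (fun m => ∏ q ∈ B, d m q) fun a b => by
    show ∏ q ∈ B, d ((a : S) * b) q = (∏ q ∈ B, d a q) * ∏ q ∈ B, d b q
    rw [Finset.prod_congr rfl fun q _ => hd (a : S) b q, Finset.prod_mul_distrib,
      hreidx (fun q => d a q) b b.2, mul_comm]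
  have hμ : ∀ u : S, μ (MulAut.conjNormal u ⟨x, hxM⟩) = ∏ r ∈ B, d x (u⁻¹ • r) := by
    intro u
    show ∏ r ∈ B, d (u * x * u⁻¹) r = _
    have h1 : ∀ r, d (u * x * u⁻¹) r =
        d u⁻¹ r * d x (u⁻¹ • r) * d u ((x * u⁻¹) • r) := by
      intro r
      rw [mul_assoc u, hd u (x * u⁻¹) r, hd x u⁻¹ r]
    have h2 : ∏ r ∈ B, d u ((x * u⁻¹) • r) = ∏ r ∈ B, d u (u⁻¹ • r) := by
      rw [← hreidx (fun r => d u (u⁻¹ • r)) (u * x * u⁻¹) (hMn.conj_mem x hxM u)]
      refine Finset.prod_congr rfl fun r _ => ?_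
      rw [← mul_smul]
      simp [mul_assoc]
    have hone : ∀ r, d 1 r = 1 := by
      intro r
      simpa using (prod_range_cocycle d hd 1 r 0).symm
    rw [Finset.prod_congr rfl fun r _ => h1 r, Finset.prod_mul_distrib, Finset.prod_mul_distrib, h2,
      mul_right_comm, ← Finset.prod_mul_distrib,
      Finset.prod_eq_one (fun r _ => by rw [← hd u u⁻¹ r, mul_inv_cancel, hone]), one_mul]
  refine exists_surjective_wreath p hS M hMi μ t ⟨x, hxM⟩ fun h => horb ?_
  rw [← h, Finset.prod_congr rfl fun i _ => hμ (t ^ i), ← Finset.prod_product']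
  refine (Finset.prod_bij (fun a _ => (t ^ a.1)⁻¹ • a.2) (fun a ha => ?_) ?_ ?_
    fun a _ => rfl).symm
  · obtain ⟨m, -, hm⟩ := (Finset.mem_filter.1 (Finset.mem_product.1 ha).2).2
    exact Finset.mem_filter.2 ⟨Finset.mem_univ _, (t ^ a.1)⁻¹ * m, by
      show ((t ^ a.1)⁻¹ * m) • q₀ = _
      rw [mul_smul, hm]⟩
  · intro a ha b hb hab
    obtain ⟨m, hmM, hm⟩ := (Finset.mem_filter.1 (Finset.mem_product.1 ha).2).2
    obtain ⟨n, hnM, hn⟩ := (Finset.mem_filter.1 (Finset.mem_product.1 hb).2).2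
    have hij : a.1 = b.1 := by
      refine huniq _ (Finset.mem_range.1 (Finset.mem_product.1 ha).1) _
        (Finset.mem_range.1 (Finset.mem_product.1 hb).1) ?_
      have hst : ((t ^ b.1)⁻¹ * n)⁻¹ * ((t ^ a.1)⁻¹ * m) ∈ M := hHM (MulAction.mem_stabilizer_iff.2 (by
        rw [mul_smul, mul_smul, hm, hab, ← hn, ← mul_smul (t ^ b.1)⁻¹, inv_smul_smul]))
      have h0 : π (((t ^ b.1)⁻¹ * n)⁻¹ * ((t ^ a.1)⁻¹ * m)) = 1 :=
        (QuotientGroup.eq_one_iff _).2 hst
      simp only [map_mul, map_inv, (QuotientGroup.eq_one_iff m).2 hmM, (QuotientGroup.eq_one_iff n).2 hnM,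
        hπ, QuotientGroup.mk'_apply] at h0 ⊢
      simp only [QuotientGroup.mk_pow] at h0 ⊢
      exact (mul_inv_eq_one.1 (by simpa [mul_assoc] using h0)).symm
    refine Prod.ext hij ?_
    rw [hij] at hab
    exact smul_left_cancel _ hab
  · intro r hr
    obtain ⟨g, rfl⟩ := (Finset.mem_filter.1 hr).2
    obtain ⟨i, hi, hiM⟩ := hexi g
    exact ⟨(i, (t ^ i * g) • q₀), Finset.mem_product.2 ⟨Finset.mem_range.2 hi,
      Finset.mem_filter.2 ⟨Finset.mem_univ _, _, hiM, rfl⟩⟩, by
      show (t ^ i)⁻¹ • (t ^ i * g) • q₀ = g • q₀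
      rw [mul_smul, inv_smul_smul]⟩

end Cfsg.Agent.Yoshida
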