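/-
Yoshida's transfer theorem for saturated fusion systems.

* `exists_hom_zmod`: separating an element from a subgroup containing the Frattini subgroup;
* `exists_invariant_cocycle`: the terms of the transfer of a saturated system;
* `yoshida_fusion`: if the focal subgroup of the normalizer system of `S` is not the focal subgroup
  then `S` maps onto a Sylow `p`-subgroup of `Sym(p²)`.
-/
import Cfsg.Agent.Lib.Yoshida.Core
import Cfsg.Agent.Lib.FusionTate.Lift
import Cfsg.Agent.Lib.Fusion.Criterion
import Cfsg.Agent.Lib.BurnsideBasis.Basic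

set_option autoImplicit false

namespace Cfsg.Agent.Yoshida

open Cfsg Cfsg.FusionSystem Cfsg.Agent.Fusion Cfsg.Agent.Biset Cfsg.Agent.FusionChain
open scoped Classical commutatorElement

/-- A linear form modulo `p` separating an element from a subgroup over the Frattini subgroup. -/
theorem exists_hom_zmod {S : Type*} [Group S] [Finite S] {p : ℕ} [hp : Fact p.Prime]
    (hS : IsPGroup p S) {A : Subgroup S} (hA : frattini S ≤ A) {x : S} (hx : x ∉ A) :
    ∃ lam : S →* Multiplicative (ZMod p), A ≤ lam.ker ∧ lam x ≠ 1 := by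
  obtain ⟨L, ⟨hAL, hxL⟩, hLmax⟩ := Set.exists_max_image {L : Subgroup S | A ≤ L ∧ x ∉ L}
    (fun L => Nat.card L) (Set.toFinite _) ⟨A, le_rfl, hx⟩
  have hcomm : ∀ a b : S, a * b * a⁻¹ * b⁻¹ ∈ L := fun a b => by
    have := hAL (hA (BurnsideBasis.commutatorElement_mem_frattini hS a b))
    rwa [commutatorElement_def] at this
  have hpow : ∀ a : S, a ^ p ∈ L := fun a => hAL (hA (BurnsideBasis.pow_mem_frattini hS a))
  haveI hLn : L.Normal := ⟨fun n hn g => by
    simpa [mul_assoc] using L.mul_mem (hcomm g n) hn⟩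
  have htop : ∀ g : S, (QuotientGroup.mk g : S ⧸ L) ∈ Subgroup.zpowers (x : S ⧸ L) := by
    intro g
    by_cases hg : g ∈ L
    · rw [(QuotientGroup.eq_one_iff g).2 hg]; exact one_mem _
    let Kg : Subgroup S := (Subgroup.zpowers (g : S ⧸ L)).comap (QuotientGroup.mk' L)
    have hLK : L < Kg := by
      refine lt_of_le_of_ne (fun l hl => ?_) fun h => hg (h ▸ (Subgroup.mem_zpowers _ : g ∈ Kg))
      show (QuotientGroup.mk l : S ⧸ L) ∈ Subgroup.zpowers (g : S ⧸ L)
      rw [(QuotientGroup.eq_one_iff l).2 hl]; exact one_mem _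
    have hxK : x ∈ Kg := by
      by_contra h
      have h2 := Set.ncard_lt_ncard (s := (L : Set S)) (t := (Kg : Set S)) hLK (Set.toFinite _)
      simp only [← Nat.card_coe_set_eq] at h2
      exact absurd (hLmax Kg ⟨hAL.trans hLK.le, h⟩) (not_le.2 h2)
    have hgp : orderOf (g : S ⧸ L) = p := orderOf_eq_prime
      (by rw [← QuotientGroup.mk_pow]; exact (QuotientGroup.eq_one_iff _).2 (hpow g))
      fun h => hg ((QuotientGroup.eq_one_iff g).1 h)
    haveI : Fact (Nat.card (Subgroup.zpowers (g : S ⧸ L))).Prime := ⟨by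
      rw [Nat.card_zpowers, hgp]; exact hp.out⟩
    have hxx : (⟨_, hxK⟩ : Subgroup.zpowers (g : S ⧸ L)) ≠ 1 := fun h =>
      hxL ((QuotientGroup.eq_one_iff x).1 (congrArg Subtype.val h))
    have := mem_zpowers_of_prime_card (G := Subgroup.zpowers (g : S ⧸ L)) rfl hxx
      (g' := ⟨_, Subgroup.mem_zpowers _⟩)
    obtain ⟨k, hk⟩ := this
    exact ⟨k, congrArg Subtype.val hk⟩
  have hxp : orderOf (x : S ⧸ L) = p := orderOf_eq_prime
    (by rw [← QuotientGroup.mk_pow]; exact (QuotientGroup.eq_one_iff _).2 (hpow x))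
    fun h => hxL ((QuotientGroup.eq_one_iff x).1 h)
  have hcard : Nat.card (S ⧸ L) = p := by
    rw [← hxp, ← Nat.card_zpowers, ← Subgroup.card_top (G := S ⧸ L)]
    suffices h : Subgroup.zpowers (x : S ⧸ L) = ⊤ by rw [h]
    refine (Subgroup.eq_top_iff' _).2 fun z => ?_
    obtain ⟨g, rfl⟩ := QuotientGroup.mk_surjective z
    exact htop g
  let e : S ⧸ L ≃* Multiplicative (ZMod p) := mulEquivOfPrimeCardEq hcard (by simp)
  refine ⟨e.toMonoidHom.comp (QuotientGroup.mk' L), fun a ha => ?_, fun h => hxL ?_⟩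
  · show e (a : S ⧸ L) = 1
    rw [(QuotientGroup.eq_one_iff a).2 (hAL ha), map_one]
  · exact (QuotientGroup.eq_one_iff x).1 (e.map_eq_one_iff.1 h)

variable {Ω : Type*} [Group Ω] {S : Subgroup Ω} {F : FusionSystem S}

/-- The action of `S` on the right orbits of a model. -/
instance instMulActionROrb (c : Subgroup (S × S) → ℕ) : MulAction S (ROrb c) where
  smul := orbMap c
  one_smul q := by
    induction q using Quotient.inductionOn' with
    | h x => exact congrArg Quotient.mk'' (one_smul (S × S) x)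
  mul_smul a b q := orbMap_mul a b q

variable [Finite S]

theorem coord_mul {c : Subgroup (S × S) → ℕ} (hc : Supp F c) {s : ROrb c → Model c}
    (hs : IsSection s) (a b : S) (q : ROrb c) :
    coord hs (a * b) q = coord hs b q * coord hs a (b • q) := by
  refine coord_unique hc hs ?_
  calc ((1 : S), coord hs b q * coord hs a (b • q)) • s (orbMap c (a * b) q)
      = ((1 : S), coord hs b q) • ((1 : S), coord hs a (orbMap c b q)) •
          s (orbMap c a (orbMap c b q)) := by
        rw [orbMap_mul, smul_smul, Prod.mk_mul_mk, one_mul]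
        rfl
    _ = ((1 : S), coord hs b q) • ((a, 1) : S × S) • s (orbMap c b q) := by
        rw [coord_spec hs a]
    _ = ((a, 1) : S × S) • ((1 : S), coord hs b q) • s (orbMap c b q) :=
        (comm_left_right _ _ _).symm
    _ = ((a, 1) : S × S) • ((b, 1) : S × S) • s q := by rw [coord_spec hs b]
    _ = ((a * b, 1) : S × S) • s q := by rw [smul_smul, Prod.mk_mul_mk, mul_one]

/-- At a fixed orbit the coordinate is the inverse of the image under a map of the system. -/
theorem exists_map_coord {c : Subgroup (S × S) → ℕ} (hc : Supp F c) {s : ROrb c → Model c}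
    (hs : IsSection s) (H : Subgroup S) (q : ROrb c) (hq : ∀ a ∈ H, a • q = q) :
    ∃ f : Ω → Ω, IsMap F (H.map S.subtype) f ∧
      ∀ a ∈ H, (((coord hs a q)⁻¹ : S) : Ω) = f a := by
  obtain ⟨f, hf, he⟩ := hc.good_of_fixed (K := MulAction.stabilizer (S × S) (s q)) fun k hk => hk
  have hmem : ∀ a ∈ H, ((a, (coord hs a q)⁻¹) : S × S) ∈ MulAction.stabilizer (S × S) (s q) := by
    intro a ha
    have h := coord_spec hs a q
    rw [show orbMap c a q = q from hq a ha] at h
    rw [MulAction.mem_stabilizer_iff]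
    calc ((a, (coord hs a q)⁻¹) : S × S) • s q
        = ((1 : S), (coord hs a q)⁻¹) • ((a, 1) : S × S) • s q := by
          rw [smul_smul, Prod.mk_mul_mk, one_mul, mul_one]
      _ = ((1 : S), (coord hs a q)⁻¹) • ((1 : S), coord hs a q) • s q := by rw [h]
      _ = s q := by
          rw [smul_smul, Prod.mk_mul_mk, one_mul, inv_mul_cancel]
          exact one_smul _ _
  refine ⟨f, hf.mono ?_, fun a ha => (he _ (hmem a ha)).symm⟩
  rintro _ ⟨a, ha, rfl⟩
  exact fst_mem_src (hmem a ha)

/-- The transfer is invariant under the maps of the system. -/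
theorem transferVal_invariant {c : Subgroup (S × S) → ℕ} [Fintype (ROrb c)] (hc : IsStable F c)
    {A : Type*} [CommGroup A] (ab : S →* A) {P : Subgroup Ω} {f : Ω → Ω} (hf : IsMap F P f)
    (u v : S) (hu : (u : Ω) ∈ P) (hv : (v : Ω) = f u) :
    transferVal ab (c := c) (s := Quotient.out) (fun q => Quotient.out_eq q) v =
      transferVal ab (c := c) (s := Quotient.out) (fun q => Quotient.out_eq q) u := by
  have hs : IsSection (c := c) Quotient.out := fun q => Quotient.out_eq q
  show transferVal ab hs v = transferVal ab hs u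
  obtain ⟨e, he⟩ := hc.exists_equiv_of_isMap hf
  have hright : ∀ (b : S) (x : Model c), e (((1 : S), b) • x) = ((1 : S), b) • e x :=
    fun b => he 1 1 b P.one_mem (by rw [OneMemClass.coe_one, hf.map_one])
  have hright' : ∀ (b : S) (x : Model c), e.symm (((1 : S), b) • x) = ((1 : S), b) • e.symm x := by
    intro b x
    apply e.injective
    rw [hright, e.apply_symm_apply, e.apply_symm_apply]
  let π : ROrb c ≃ ROrb c :=
    { toFun := Quotient.map' e fun x y ⟨b, hb⟩ => ⟨b, by rw [← hright, hb]⟩
      invFun := Quotient.map' e.symm fun x y ⟨b, hb⟩ => ⟨b, by rw [← hright', hb]⟩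
      left_inv := fun q => by
        induction q using Quotient.inductionOn' with
        | h x => exact congrArg Quotient.mk'' (e.symm_apply_apply x)
      right_inv := fun q => by
        induction q using Quotient.inductionOn' with
        | h x => exact congrArg Quotient.mk'' (e.apply_symm_apply x) }
  have hs' : IsSection (c := c) fun q => e (Quotient.out (π.symm q)) := by
    intro q
    conv_rhs => rw [← π.apply_symm_apply q, ← hs (π.symm q)]
    rfl
  rw [← transferVal_section hc.1 ab hs hs' v]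
  have hπ : ∀ q, orbMap c v (π q) = π (orbMap c u q) := by
    intro q
    induction q using Quotient.inductionOn' with
    | h x => exact congrArg Quotient.mk'' (he u v 1 hu hv x).symm
  refine (Fintype.prod_equiv π _ _ fun q => ?_).symm
  congr 1
  refine (coord_unique hc.1 hs' ?_).symm
  show ((1 : S), coord hs u q) • e (Quotient.out (π.symm (orbMap c v (π q)))) =
    ((v, 1) : S × S) • e (Quotient.out (π.symm (π q)))
  rw [hπ, π.symm_apply_apply, π.symm_apply_apply, ← hright, coord_spec hs u q, he u v 1 hu hv]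

/-- Yoshida's argument: a form invariant under the maps defined on `S` that does not kill the focal
subgroup gives the wreath image. -/
theorem exists_surjective_of_form {p : ℕ} [hp : Fact p.Prime] (hS : IsPGroup p S)
    (hF : F.IsSaturated p) (lam : S →* Multiplicative (ZMod p))
    (hlam : ∀ (f : Ω → Ω) (_ : IsMap F S f) (u v : S), (v : Ω) = f u → lam v = lam u)
    (x₀ : S) (hx₀ : (x₀ : Ω) ∈ F.focalSubgroup) (hx₀l : lam x₀ ≠ 1) :
    ∃ (W : Sylow p (Equiv.Perm (Fin (p ^ 2))))
      (f : S →* ↥(W : Subgroup (Equiv.Perm (Fin (p ^ 2))))), Function.Surjective f := by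
  obtain ⟨x, ⟨hxf, hxl⟩, hmin⟩ := Set.exists_min_image
    {x : S | (x : Ω) ∈ F.focalSubgroup ∧ lam x ≠ 1} (fun x => orderOf x) (Set.toFinite _)
    ⟨x₀, hx₀, hx₀l⟩
  obtain ⟨c, hc, hdeg⟩ := exists_characteristic hS hF
  haveI : Finite (ROrb c) := Quotient.finite _
  letI := Fintype.ofFinite (ROrb c)
  have hs : IsSection (c := c) Quotient.out := fun q => Quotient.out_eq q
  let d : S → ROrb c → Multiplicative (ZMod p) := fun a q => lam (coord hs a q)
  have hd : ∀ a b q, d (a * b) q = d b q * d a (b • q) := fun a b q => by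
    show lam _ = lam _ * lam _
    rw [coord_mul hc.1 hs, map_mul]
  refine exists_surjective_wreath_of_cocycle hS d hd x (fun q n hn hq => ?_) ?_
  · -- powers of `x` divisible by `p`
    obtain ⟨f, hf, he⟩ := exists_map_coord hc.1 hs (Subgroup.zpowers (x ^ n)) q fun a ha => by
      obtain ⟨k, rfl⟩ := ha
      exact zpow_mem (show x ^ n ∈ MulAction.stabilizer S q from hq) k
    have hm : ((x ^ n : S) : Ω) ∈ (Subgroup.zpowers (x ^ n)).map S.subtype :=
      ⟨_, Subgroup.mem_zpowers _, rfl⟩
    have hv := he (x ^ n) (Subgroup.mem_zpowers _)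
    set v : S := (coord hs (x ^ n) q)⁻¹
    show lam (coord hs (x ^ n) q) = 1
    rw [← inv_inv (coord hs (x ^ n) q), map_inv, inv_eq_one]
    by_contra hne
    have hvf : (v : Ω) ∈ F.focalSubgroup := by
      rw [hv, ← mul_inv_cancel_left ((x ^ n : S) : Ω) (f _)]
      refine F.focalSubgroup.mul_mem ?_ (inv_mul_map_mem_focal hf hm)
      rw [Subgroup.coe_pow]
      exact pow_mem hxf n
    have hle := hmin v ⟨hvf, hne⟩
    have hdv : orderOf v ∣ orderOf (x ^ n) := by
      rw [orderOf_dvd_iff_pow_eq_one]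
      apply Subtype.ext
      rw [Subgroup.coe_pow, hv]
      have hpow : ∀ k : ℕ, f (((x ^ n : S) : Ω) ^ k) = f ((x ^ n : S) : Ω) ^ k := by
        intro k
        induction k with
        | zero => rw [pow_zero, pow_zero, hf.map_one]
        | succ k ih => rw [pow_succ, hf.map_mul (pow_mem hm k) hm, ih, pow_succ]
      rw [← hpow, ← Subgroup.coe_pow, pow_orderOf_eq_one, OneMemClass.coe_one, hf.map_one]
    have hxo : p ∣ orderOf x := by
      obtain ⟨k, hk⟩ := (IsPGroup.iff_orderOf.1 hS) x
      rcases Nat.eq_zero_or_pos k with rfl | hk0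
      · exact absurd (by rw [orderOf_eq_one_iff.1 (show orderOf x = 1 by simpa using hk), map_one]) hxl
      · rw [hk]; exact dvd_pow_self p hk0.ne'
    have hxn : orderOf (x ^ n) ∣ orderOf x / p := by
      rw [orderOf_dvd_iff_pow_eq_one, ← pow_mul]
      refine orderOf_dvd_iff_pow_eq_one.1 ?_
      conv_lhs => rw [← Nat.mul_div_cancel' hxo]
      exact Nat.mul_dvd_mul_right hn _
    have hpos := Nat.div_pos (Nat.le_of_dvd (orderOf_pos x) hxo) hp.out.pos
    have := (Nat.le_of_dvd hpos (hdv.trans hxn))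
    exact absurd (hle.trans this) (not_le.2 (Nat.div_lt_self (orderOf_pos x) hp.out.one_lt))
  · -- the transfer is trivial at `x`
    let τ : S →* Multiplicative (ZMod p) :=
      MonoidHom.mk' (transferVal lam hs) (transferVal_mul hc.1 lam hs)
    have hker : F.focalSubgroup ≤ τ.ker.map S.subtype := by
      refine (Subgroup.closure_le _).2 ?_
      rintro _ ⟨P, φ, u, hφ, rfl⟩
      let u' : S := ⟨u, (F.le_of_mem hφ).1 u.2⟩
      let v' : S := ⟨φ u, (F.le_of_mem hφ).2 u⟩
      refine ⟨u'⁻¹ * v', ?_, rfl⟩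
      show τ _ = 1
      rw [map_mul, map_inv, inv_mul_eq_one]
      exact (transferVal_invariant hc lam (isMap_toFn hφ) u' v' u.2 (toFn_coe φ u).symm).symm
    have hτ : ∏ q, d x q = 1 := by
      obtain ⟨z, hz, hze⟩ := hker hxf
      obtain rfl : z = x := Subtype.ext hze
      exact hz
    rw [← Finset.prod_filter_mul_prod_filter_not Finset.univ (fun q : ROrb c => ∃ s : S, s • q ≠ q)] at hτ
    intro h
    rw [h, one_mul] at hτ
    have hfix : ∀ q ∈ Finset.univ.filter (fun q : ROrb c => ¬∃ s : S, s • q ≠ q),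
        d x q = (lam x)⁻¹ := by
      intro q hq
      have hq' := (Finset.mem_filter.1 hq).2
      push Not at hq'
      obtain ⟨f, hf, he⟩ := exists_map_coord hc.1 hs ⊤ q fun a _ => hq' a
      have hf' : IsMap F S f := hf.mono (by rw [← MonoidHom.range_eq_map, Subgroup.range_subtype])
      have := hlam f hf' x _ (he x (Subgroup.mem_top _))
      rw [map_inv] at this
      rw [← this]
      exact (inv_inv _).symm
    rw [Finset.prod_congr rfl hfix, Finset.prod_const, inv_pow, inv_eq_one] at hτ
    set k := (Finset.univ.filter (fun q : ROrb c => ¬∃ s : S, s • q ≠ q)).card with hk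
    have hpk : ¬ p ∣ k := by
      have hmodeq := hS.card_modEq_card_fixedPoints (ROrb c)
      have hfp : Nat.card (MulAction.fixedPoints S (ROrb c)) = k := by
        rw [hk, Nat.card_eq_fintype_card, Fintype.card_subtype]
        refine congrArg Finset.card (Finset.filter_congr fun q _ => ?_)
        simp [MulAction.mem_fixedPoints]
      rw [hfp, Nat.card_eq_fintype_card] at hmodeq
      intro hdk
      exact FusionTate.not_dvd_card_rorb hc.1 hdeg ((hmodeq.dvd_iff dvd_rfl).2 hdk)
    apply hxl
    have hlp : (lam x) ^ p = 1 := by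
      apply Multiplicative.toAdd.injective
      rw [toAdd_pow, toAdd_one, nsmul_eq_mul, ZMod.natCast_self, zero_mul]
    have hg : (lam x) ^ Nat.gcd k p = 1 := pow_gcd_eq_one.2 ⟨hτ, hlp⟩
    rwa [Nat.Coprime.gcd_eq_one ((hp.out.coprime_iff_not_dvd.2 hpk).symm), pow_one] at hg

/-- **Yoshida's theorem for fusion systems.** -/
theorem yoshida_fusion {p : ℕ} [hp : Fact p.Prime] (hS : IsPGroup p S) (hF : F.IsSaturated p)
    (Nfoc : Subgroup Ω)
    (hsub : ∀ (f : Ω → Ω) (_ : IsMap F S f) (u : Ω), u ∈ S → u⁻¹ * f u ∈ Nfoc)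
    (hne : ¬ F.focalSubgroup ≤ Nfoc) :
    ∃ (W : Sylow p (Equiv.Perm (Fin (p ^ 2))))
      (f : S →* ↥(W : Subgroup (Equiv.Perm (Fin (p ^ 2))))), Function.Surjective f := by
  -- the part of `hyp` coming from automorphisms of `S`
  let M₀ : Subgroup S := Subgroup.closure {z : S | ∃ α : F.autGroup S,
    α ∈ Cfsg.pResidual p (F.autGroup S) ∧ ∃ u : S, z = u⁻¹ * ((α : MulAut S) u : S)}
  haveI hM₀n : M₀.Normal := by
    refine ⟨fun n hn g => ?_⟩
    induction hn using Subgroup.closure_induction with
    | one => simp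
    | mul a b _ _ ha hb => simpa [mul_assoc] using mul_mem ha hb
    | inv a _ ha => simpa [mul_assoc] using inv_mem ha
    | mem z hz =>
      obtain ⟨α, hα, u, rfl⟩ := hz
      have h1 : (u * g⁻¹)⁻¹ * (α : MulAut S) (u * g⁻¹) ∈ M₀ :=
        Subgroup.subset_closure ⟨α, hα, _, rfl⟩
      have h2 : (g⁻¹)⁻¹ * (α : MulAut S) g⁻¹ ∈ M₀ := Subgroup.subset_closure ⟨α, hα, _, rfl⟩
      simpa [mul_assoc] using mul_mem h1 (inv_mem h2)
  have hM₀hyp : M₀ ≤ (F.hyperfocalSubgroup p).subgroupOf S := by
    refine (Subgroup.closure_le _).2 ?_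
    rintro _ ⟨α, hα, u, rfl⟩
    exact Subgroup.subset_closure ⟨S, α, u, le_rfl, hα, rfl⟩
  have hM₀N : M₀.map S.subtype ≤ Nfoc := by
    rw [Subgroup.map_le_iff_le_comap, Subgroup.closure_le]
    rintro _ ⟨α, -, u, rfl⟩
    have := hsub (autFn (α : MulAut S)) (isIso_autFn le_rfl α.2).1 u u.2
    rwa [autFn_apply _ u.2] at this
  have hS'N : (commutator S).map S.subtype ≤ Nfoc := by
    rw [Subgroup.map_le_iff_le_comap, commutator_eq_closure, Subgroup.closure_le]
    rintro _ ⟨a, b, rfl⟩
    have := hsub _ (IsMap.conj (F := F) (le_refl S) a.2) (b⁻¹ : S) (b⁻¹ : S).2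
    show ((⁅a, b⁆ : S) : Ω) ∈ Nfoc
    have h2 := Nfoc.inv_mem this
    simpa [commutatorElement_def, mul_assoc] using h2
  -- some element of the focal subgroup is outside `Φ(S) M₀`
  obtain ⟨x, hxf, hxA⟩ : ∃ x : S, (x : Ω) ∈ F.focalSubgroup ∧ x ∉ frattini S ⊔ M₀ := by
    by_contra! hall
    apply hne
    have hM : M₀ = (F.hyperfocalSubgroup p).subgroupOf S :=
      FusionTate.hyperfocal_eq_of_le_frattini_sup hS hF hM₀hyp fun u hu =>
        hall u (hyperfocal_le_focal p hu)
    rw [FusionTate.focal_eq hS hF]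
    refine sup_le (fun u hu => ?_) hS'N
    exact hM₀N ⟨⟨u, hyperfocalSubgroup_le p hu⟩, hM.symm ▸ hu, rfl⟩
  obtain ⟨lam, hlamA, hlamx⟩ := exists_hom_zmod hS le_sup_left hxA
  refine exists_surjective_of_form hS hF lam ?_ x hxf hlamx
  -- the form is invariant under the automorphisms of `S`
  let H : Subgroup (MulAut S) :=
    { carrier := {a | ∀ u : S, lam (a u) = lam u}
      one_mem' := fun u => rfl
      mul_mem' := fun {a b} ha hb u => (ha (b u)).trans (hb u)
      inv_mem' := fun {a} ha u => by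
        conv_rhs => rw [← MulAut.apply_inv_self S a u]
        exact (ha _).symm }
  haveI := finite_mulAut (S := S) (le_refl S)
  have hle : F.autGroup S ≤ H := by
    refine FusionNormal.autGroup_le_of_sylow_pResidual
      (isFullyAutomized_iff.1 (fullyAutomized_of_fullyNormalized hS hF (isFullyNormalized_self F))).2
      ?_ ?_
    · intro a ha u
      obtain ⟨s, hs, hsa⟩ := mem_autInducedBy_iff.1 ha
      have : a u = ⟨s, hs⟩ * u * (⟨s, hs⟩ : S)⁻¹ := Subtype.ext (hsa u)
      rw [this, map_mul, map_mul, map_inv, mul_inv_cancel_comm]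
    · intro a ha hco u
      have hz : u⁻¹ * a u ∈ M₀ :=
        Subgroup.subset_closure ⟨⟨a, ha⟩, mem_pResidual_of_coprime ha hco, u, rfl⟩
      have := hlamA (Subgroup.mem_sup_right hz)
      rw [MonoidHom.mem_ker, map_mul, map_inv, inv_mul_eq_one] at this
      exact this.symm
  intro f hf u v hv
  have himg : img f S = S := eq_of_le_of_card le_rfl hf.img_le_S (le_of_eq (hf.card_img le_rfl).symm)
  obtain ⟨α, hα, he⟩ := exists_aut_of_isIso (F := F) (P := S) (f := f) ⟨hf, himg⟩
  rw [show v = α u from Subtype.ext (hv.trans (he u).symm)]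
  exact hle hα u

end Cfsg.Agent.Yoshida
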